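import Groth.Agent.CurvSt.K900.VecSemi
import Groth.Agent.VecBal.K812.Iface

/-!
# J2d: the locus of semistable fibres is open
-/

set_option autoImplicit false
universe u
open CategoryTheory CategoryTheory.Limits AlgebraicGeometry

namespace Groth.Agent.VecBal.K900.OpenMain

/-- J2d. -/
theorem main : K812.Iface.OpenStmt.{u} := fun _ _ f hf hp hl _ hg _ _ _ t _ _ _ sq h =>
  _root_.K900.VecSemi.exists_open f (by omega) t sq h

end Groth.Agent.VecBal.K900.OpenMain
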